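import Groth.Agent.GLin.K676.PsRefl
import Groth.Agent.GLin.K764.StabIdeal
import Mathlib.RingTheory.Filtration

/-!
# The colon property of invariants of groups generated by pseudo-reflections

`colon_le`: for `f` invariant and `I₀` an ideal of the invariants such that no multiple `s f` with
`s ∉ my` lies in `I₀`, every `g ∈ R` with `f g ∈ I₀ R` lies in the ideal `fib` of the fibre.
-/

set_option autoImplicit false

universe u

open TensorProduct HopfRep

namespace K676.CST

open Groth.Agent.Books.ComodBasic Groth.Agent.Books.ComodHom Groth.Agent.Books.ComodInv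
open K764.HopfMod K764.Reductive TameAct

section Krull

/-- Krull: an ideal of a Noetherian local ring is closed. -/
theorem mem_of_forall_mem_sup_pow {L : Type*} [CommRing L] [IsLocalRing L] [IsNoetherianRing L]
    (P : Ideal L) (y : L) (h : ∀ j : ℕ, y ∈ P ⊔ IsLocalRing.maximalIdeal L ^ j) : y ∈ P := by
  rw [← Submodule.Quotient.mk_eq_zero P]
  have h1 := Ideal.iInf_pow_smul_eq_bot_of_isLocalRing (R := L) (M := L ⧸ P)
    (IsLocalRing.maximalIdeal L) (Ideal.IsPrime.ne_top inferInstance)
  rw [← Submodule.mem_bot (R := L), ← h1, Submodule.mem_iInf]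
  intro j
  obtain ⟨p, hp, q, hq, rfl⟩ := Submodule.mem_sup.1 (h j)
  have h2 : (Submodule.Quotient.mk (p + q) : L ⧸ P) = q • (Submodule.Quotient.mk 1 : L ⧸ P) := by
    rw [← Submodule.Quotient.mk_smul, smul_eq_mul, mul_one, Submodule.Quotient.eq,
      add_sub_cancel_right]
    exact hp
  rw [h2]
  exact Submodule.smul_mem_smul hq trivial

end Krull

variable {k : Type u} [Field k] {A : Type u} [CommRing A] [HopfAlgebra k A]
  {R : Type u} [CommRing R] [Algebra k R] [Comod k A R] [GLin.IsCoactAlg k A R]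
  {x : R →ₐ[k] k} [Module.Finite k A] [Algebra.FiniteType k R]

/-- One pseudo-reflection moves the colon ideal `J` into `n J`. -/
theorem sub_mem_of_vec (hG : IsLinearlyReductive k A) (hx : GLin.IsFixedPt k A x)
    [IsDomain (Localization.AtPrime (RingHom.ker x))]
    (I₀ : Ideal (GLin.invariants k A R)) (f : GLin.invariants k A R) (J : Ideal R)
    (hJ : ∀ b, b ∈ J ↔ (f : R) * b ∈ I₀.map (algebraMap (GLin.invariants k A R) R))
    (φ : A →ₗ[k] k) (ℓ : R) (hℓ : ℓ ∈ RingHom.ker x) (hℓ2 : ℓ ∉ RingHom.ker x ^ 2)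
    (hD : ∀ (r : R) (j : ℕ), dact R φ r - φ 1 • r ∈ Ideal.span {ℓ} ⊔ RingHom.ker x ^ j)
    (g : R) (hg : g ∈ J) : dact R φ g - φ 1 • g ∈ RingHom.ker x * J ⊔ fib k A x := by
  have hRN : IsNoetherianRing R := Algebra.FiniteType.isNoetherianRing k R
  set n := RingHom.ker x with hn
  let L := Localization.AtPrime n
  have hLN : IsNoetherianRing L := IsLocalization.isNoetherianRing n.primeCompl L hRN
  let a := algebraMap R L
  set D : R →ₗ[k] R := dact R φ - φ 1 • LinearMap.id with hDdef
  have hDapp : ∀ r, D r = dact R φ r - φ 1 • r := fun r => rfl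
  have hDlin : ∀ (s : GLin.invariants k A R) (r : R), D (s * r) = s * D r := by
    intro s r
    rw [hDapp, hDapp, dact_mul_invariant φ s.2, mul_sub, mul_smul_comm]
  have hh : ∀ r, ∃ h : L, a (D r) = a ℓ * h := by
    intro r
    have h1 : a (D r) ∈ Ideal.span {a ℓ} := by
      refine mem_of_forall_mem_sup_pow _ _ fun j => ?_
      have h2 := Ideal.mem_map_of_mem a (hD r j)
      rw [Ideal.map_sup, Ideal.map_span, Set.image_singleton, Ideal.map_pow,
        Localization.AtPrime.map_eq_maximalIdeal] at h2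
      exact h2
    obtain ⟨h, hh⟩ := Ideal.mem_span_singleton'.1 h1
    exact ⟨h, by rw [← hh, mul_comm]⟩
  choose h hh using hh
  have hℓ0 : a ℓ ≠ 0 := by
    intro h0
    obtain ⟨t, ht⟩ := (IsLocalization.map_eq_zero_iff n.primeCompl L ℓ).1 h0
    have ht' : x (t : R) ≠ 0 := t.2
    apply hℓ2
    have h1 : ℓ = algebraMap k R (x (t : R))⁻¹ *
        (((algebraMap k R (x (t : R)) - (t : R)) * ℓ)) := by
      rw [sub_mul, ht, sub_zero, ← mul_assoc, ← map_mul, inv_mul_cancel₀ ht', map_one, one_mul]
    rw [h1, pow_two]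
    refine Ideal.mul_mem_left _ _ (Ideal.mul_mem_mul ?_ hℓ)
    change x (algebraMap k R (x (t : R)) - t) = 0
    rw [map_sub, AlgHom.commutes]
    simp
  have key : ∀ r ∈ I₀.map (algebraMap (GLin.invariants k A R) R), ∀ b : R,
      ∃ z ∈ (I₀.map (algebraMap (GLin.invariants k A R) R)).map a, a (D (b * r)) = a ℓ * z := by
    intro r hr
    induction hr using Submodule.span_induction with
    | mem r hr =>
      obtain ⟨c, hc, rfl⟩ := hr
      intro b
      refine ⟨h b * a (algebraMap _ R c), Ideal.mul_mem_left _ _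
        (Ideal.mem_map_of_mem a (Ideal.mem_map_of_mem _ hc)), ?_⟩
      have h1 : D (b * algebraMap _ R c) = algebraMap _ R c * D b := by
        rw [mul_comm b]
        exact hDlin c b
      rw [h1, map_mul, hh]
      ring
    | zero => exact fun b => ⟨0, zero_mem _, by simp⟩
    | add r s _ _ hr hs =>
      intro b
      obtain ⟨z, hz, hz'⟩ := hr b
      obtain ⟨w, hw, hw'⟩ := hs b
      exact ⟨z + w, add_mem hz hw, by rw [mul_add, map_add, map_add, hz', hw', mul_add]⟩
    | smul c r _ hr =>
      intro b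
      obtain ⟨z, hz, hz'⟩ := hr (b * c)
      exact ⟨z, hz, by rw [← hz', smul_eq_mul, mul_assoc]⟩
  -- the quotient `h g` lies in the colon ideal
  obtain ⟨z, hz, hz'⟩ := key _ ((hJ g).1 hg) 1
  rw [one_mul, hDlin, map_mul, hh] at hz'
  have hfg : a (f : R) * h g = z := by
    apply mul_left_cancel₀ hℓ0
    rw [← hz']
    ring
  obtain ⟨y, t, hyt⟩ := IsLocalization.exists_mk'_eq n.primeCompl (h g)
  have h1 : a ((f : R) * y) ∈ (I₀.map (algebraMap (GLin.invariants k A R) R)).map a := by
    have h2 : a ((f : R) * y) = a t * z := by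
      have h3 : a y = h g * a t := by
        rw [← hyt]
        exact (IsLocalization.mk'_spec L y t).symm
      rw [← hfg, map_mul, h3]
      ring
    rw [h2]
    exact Ideal.mul_mem_left _ _ hz
  obtain ⟨t', ht', ht'2⟩ := (IsLocalization.algebraMap_mem_map_algebraMap_iff n.primeCompl L _ _).1 h1
  have h2 : t' * y ∈ J := by
    rw [hJ]
    have : (f : R) * (t' * y) = t' * (f * y) := by ring
    rw [this]
    exact ht'2
  have h3 : a (t * t' * D g) ∈ (n * J).map a := by
    have h4 : a (t * t' * D g) = a (ℓ * (t' * y)) := by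
      have h5 : a y = h g * a t := by
        rw [← hyt]
        exact (IsLocalization.mk'_spec L y t).symm
      rw [map_mul, map_mul, hh, map_mul, map_mul, h5]
      ring
    rw [h4]
    exact Ideal.mem_map_of_mem a (Ideal.mul_mem_mul hℓ h2)
  obtain ⟨t'', ht'', h4⟩ := (IsLocalization.algebraMap_mem_map_algebraMap_iff n.primeCompl L _ _).1 h3
  have h5 : t'' * (t * t') ∉ n := by
    intro hcon
    have hp : n.IsPrime := inferInstance
    rcases hp.mem_or_mem hcon with h6 | h6
    · exact ht'' h6
    · rcases hp.mem_or_mem h6 with h7 | h7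
      · exact t.2 h7
      · exact ht' h7
  obtain ⟨u, hu⟩ := exists_mul_sub_one_mem (k := k) (A := A) hG hx h5
  rw [← hDapp]
  have h6 : D g = u * (t'' * (t * t' * D g)) - (u * (t'' * (t * t')) - 1) * D g := by ring
  rw [h6]
  exact sub_mem (Ideal.mem_sup_left (Ideal.mul_mem_left _ _ h4))
    (Ideal.mem_sup_right (Ideal.mul_mem_right _ _ hu))

/-- **The colon property.** -/
theorem colon_le (hG : IsLinearlyReductive k A)
    (hsub : ∀ (I : Ideal A) [I.IsHopfIdeal k], IsLinearlyReductive k (A ⧸ I))
    (hx : GLin.IsFixedPt k A x) (hgen : GLin.IsGenByPseudoReflAt k A R x)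
    [IsDomain (Localization.AtPrime (RingHom.ker x))]
    (I₀ : Ideal (GLin.invariants k A R)) (f : GLin.invariants k A R)
    (hf : ∀ s, s ∉ my k A x → s * f ∉ I₀) (g : R)
    (hg : (f : R) * g ∈ I₀.map (algebraMap (GLin.invariants k A R) R)) : g ∈ fib k A x := by
  set n := RingHom.ker x with hn
  let J : Ideal R :=
    { carrier := {b | (f : R) * b ∈ I₀.map (algebraMap (GLin.invariants k A R) R)}
      add_mem' := fun ha hb => by
        simp only [Set.mem_ofPred_eq] at *
        rw [mul_add]
        exact add_mem ha hb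
      zero_mem' := by simp
      smul_mem' := fun c b hb => by
        simp only [Set.mem_ofPred_eq] at *
        rw [smul_eq_mul, mul_left_comm]
        exact Ideal.mul_mem_left _ _ hb }
  have hJ : ∀ b, b ∈ J ↔ (f : R) * b ∈ I₀.map (algebraMap (GLin.invariants k A R) R) :=
    fun b => Iff.rfl
  have hsJ : Stable k A J := by
    rw [stable_iff]
    intro φ r hr
    rw [hJ] at hr ⊢
    rw [← dact_mul_invariant φ f.2]
    exact (stable_iff _).1 (stable_map _) φ _ hr
  have hsP : Stable k A (n * J ⊔ fib k A x) := ((stable_ker hx).mul hsJ).sup (stable_map _)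
  -- invariants of `J`
  have hJS : ∀ s : GLin.invariants k A R, (s : R) ∈ J → s ∈ my k A x := by
    intro s hs
    by_contra hcon
    refine hf s hcon ?_
    rw [hJ] at hs
    rw [← comap_map_invariants hG I₀, Ideal.mem_comap]
    have : (algebraMap (GLin.invariants k A R) R) (s * f) = (f : R) * s := by
      rw [mul_comm]
      rfl
    rw [this]
    exact hs
  -- the step
  have hstep : J ≤ n * J ⊔ fib k A x := by
    intro g hg
    let := quotIdealComod (k := k) (A := A) (n * J ⊔ fib k A x) hsP
    have hmk : IsComodHom k A (Ideal.Quotient.mkₐ k (n * J ⊔ fib k A x)).toLinearMap :=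
      isComodHom_mk (n * J ⊔ fib k A x) hsP
    set v : R ⧸ (n * J ⊔ fib k A x) := Ideal.Quotient.mk _ g with hv
    have hstab : K764.StabIdeal.stab k A v ≤ ⊥ := by
      rw [← (show GLin.genIdealAt k A R x = ⊥ from hgen)]
      refine le_sSup ⟨K764.StabIdeal.isHopfIdeal_stab _, fun I hI => ?_⟩
      have hIH : I.IsHopfIdeal k := hI.1
      rw [← K764.StabIdeal.mem_quotInvariants_iff_stab_le, GLin.mem_quotInvariants_iff]
      refine ext_slice fun ψ => ?_
      obtain ⟨ℓ, h1, h2, h3⟩ := exists_vec_of_isPseudoReflAt hx I (hsub I) hI.2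
      have h4 := sub_mem_of_vec hG hx I₀ f J hJ
        (ψ ∘ₗ (Ideal.Quotient.mkₐ k I).toLinearMap) ℓ h1 h2 (fun r j => by
          have := h3 ψ r j
          rwa [LinearMap.comp_apply, AlgHom.toLinearMap_apply, map_one]) g hg
      have h5 : slice (R ⧸ (n * J ⊔ fib k A x)) ψ ((Ideal.Quotient.mkₐ k I).toLinearMap.lTensor _
          (Comod.coact (k := k) (A := A) v)) =
            dact _ (ψ ∘ₗ (Ideal.Quotient.mkₐ k I).toLinearMap) v := by
        rw [dact_apply]
        generalize Comod.coact (k := k) (A := A) v = z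
        induction z with
        | zero => simp
        | add x y hx hy => simp only [map_add, hx, hy]
        | tmul v a => simp
      rw [h5, slice_tmul]
      have h6 := hmk.map_dact (ψ ∘ₗ (Ideal.Quotient.mkₐ k I).toLinearMap) g
      have h7 : Ideal.Quotient.mkₐ k (n * J ⊔ fib k A x)
          (dact R (ψ ∘ₗ (Ideal.Quotient.mkₐ k I).toLinearMap) g -
            (ψ ∘ₗ (Ideal.Quotient.mkₐ k I).toLinearMap) 1 • g) = 0 :=
        Ideal.Quotient.eq_zero_iff_mem.2 h4
      rw [map_sub, sub_eq_zero, map_smul, LinearMap.comp_apply, AlgHom.toLinearMap_apply,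
        map_one] at h7
      exact h6.symm.trans h7
    have hfix : v ∈ fixedPts k A (R ⧸ (n * J ⊔ fib k A x)) := by
      rw [mem_fixedPts_iff]
      refine K764.StabIdeal.ext_lslice fun φ => ?_
      have h1 : coeffMap A φ v - algebraMap k A (φ v) ∈ K764.StabIdeal.stab k A v :=
        Ideal.subset_span ⟨φ, rfl⟩
      have h2 := hstab h1
      rw [Submodule.mem_bot, sub_eq_zero, coeffMap_apply] at h2
      rw [h2, LinearMap.rTensor_tmul, TensorProduct.lid_tmul, Algebra.smul_def, mul_one]
    let := subComod (k := k) (A := A) (J.restrictScalars k) hsJ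
    have hsubJ : IsComodHom k A (J.restrictScalars k).subtype := isComodHom_subtype _ hsJ
    obtain ⟨g', hg', hg'v⟩ := exists_fixed_lift hG (hmk.comp hsubJ) hfix (v := ⟨g, hg⟩) rfl
    have h1 : (g' : R) ∈ GLin.invariants k A R := IsComodHom.map_mem_fixedPts hsubJ hg'
    have h2 := hJS ⟨g', h1⟩ g'.2
    have h3 : (g' : R) ∈ fib k A x := Ideal.mem_map_of_mem (algebraMap _ R) h2
    have h4 : (g' : R) - g ∈ n * J ⊔ fib k A x := by
      rw [← Ideal.Quotient.eq_zero_iff_mem, map_sub, sub_eq_zero]
      exact hg'v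
    have h5 : g = g' - (g' - g) := by ring
    rw [h5]
    exact sub_mem (Ideal.mem_sup_right h3) h4
  have hpow : ∀ j : ℕ, J ≤ n ^ j ⊔ fib k A x := by
    intro j
    induction j with
    | zero => simp
    | succ j ih =>
      refine hstep.trans (sup_le ?_ le_sup_right)
      refine (Ideal.mul_mono_right ih).trans ?_
      rw [Ideal.mul_sup, ← pow_succ']
      exact sup_le_sup_left Ideal.mul_le_right _
  obtain ⟨N, hN⟩ := exists_ker_pow_le (k := k) (A := A) hG hx
  have h1 := hpow N ((hJ g).2 hg)
  rwa [sup_eq_right.2 hN] at h1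

end K676.CST
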