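import Mathlib.RingTheory.LocalRing.Module
import Mathlib.RingTheory.Flat.Basic
import Mathlib.LinearAlgebra.FreeModule.Basic
import Mathlib.RingTheory.Localization.AtPrime.Basic

/-!
# Freeness from the colon property

Let `S` be a local ring with maximal ideal `m` and `M` a finite `S`-module such that, for every
ideal `I`, every `f ∉ I` and every `g ∈ M`, `f g ∈ I M` implies `g ∈ m M`.  Then `M` is free
(`free_of_colon`): the relations between the members of a minimal system of generators are trivial.
-/

set_option autoImplicit false

namespace K676.Free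

open IsLocalRing

variable {S : Type*} [CommRing S] [IsLocalRing S] {M : Type*} [AddCommGroup M] [Module S M]

/-- Families independent modulo `m M` are independent. -/
theorem linearIndependent_of_colon
    (H : ∀ (I : Ideal S) (f : S) (g : M), f • g ∈ I • (⊤ : Submodule S M) → f ∉ I →
      g ∈ maximalIdeal S • (⊤ : Submodule S M)) :
    ∀ (n : ℕ) (e : Fin n → M)
      (_ : ∀ c : Fin n → S, ∑ i, c i • e i ∈ maximalIdeal S • (⊤ : Submodule S M) →
        ∀ i, c i ∈ maximalIdeal S) (a : Fin n → S), ∑ i, a i • e i = 0 → ∀ i, a i = 0 := by
  intro n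
  induction n with
  | zero => exact fun _ _ _ _ i => i.elim0
  | succ n ih =>
    intro e he a ha
    have h0 : a 0 ∈ Ideal.span (Set.range fun i : Fin n => a i.succ) := by
      by_contra hcon
      have h1 : a 0 • e 0 ∈ Ideal.span (Set.range fun i : Fin n => a i.succ) •
          (⊤ : Submodule S M) := by
        rw [Fin.sum_univ_succ, add_eq_zero_iff_eq_neg] at ha
        rw [ha]
        refine neg_mem (Submodule.sum_mem _ fun i _ => ?_)
        exact Submodule.smul_mem_smul (Ideal.subset_span ⟨i, rfl⟩) trivial
      have h2 := H _ _ _ h1 hcon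
      have h3 := he (Pi.single 0 1) (by
        have : ∑ i, (Pi.single 0 1 : Fin (n + 1) → S) i • e i = e 0 := by
          rw [Finset.sum_eq_single 0]
          · simp
          · intro b _ hb
            simp [hb]
          · intro h
            exact absurd (Finset.mem_univ _) h
        rw [this]
        exact h2) 0
      rw [Pi.single_eq_same] at h3
      exact (Ideal.ne_top_iff_one _).1 (maximalIdeal.isMaximal S).ne_top h3
    rw [Ideal.mem_span_range_iff_exists_fun] at h0
    obtain ⟨b, hb⟩ := h0
    have hsucc : ∀ i : Fin n, a i.succ = 0 := by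
      refine ih (fun i => e i.succ + b i • e 0) ?_ (fun i => a i.succ) ?_
      · intro c hc i
        have h1 := he (Fin.cons (∑ j, c j * b j) c) (by
          rw [Fin.sum_univ_succ]
          simp only [Fin.cons_zero, Fin.cons_succ]
          refine (congrArg (· ∈ maximalIdeal S • (⊤ : Submodule S M)) ?_).mp hc
          simp only [smul_add, smul_smul, Finset.sum_add_distrib, Finset.sum_smul]
          rw [add_comm]) i.succ
        simpa using h1
      · rw [Fin.sum_univ_succ] at ha
        rw [← ha]
        simp only [smul_add, smul_smul, Finset.sum_add_distrib]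
        rw [add_comm, ← Finset.sum_smul, ← hb]
        simp only [mul_comm]
    intro i
    refine Fin.cases ?_ hsucc i
    rw [← hb]
    simp [hsucc]

/-- **Freeness from the colon property**. -/
theorem free_of_colon [Module.Finite S M]
    (H : ∀ (I : Ideal S) (f : S) (g : M), f • g ∈ I • (⊤ : Submodule S M) → f ∉ I →
      g ∈ maximalIdeal S • (⊤ : Submodule S M)) : Module.Free S M := by
  classical
  let k := ResidueField S
  let V := M ⧸ (maximalIdeal S • (⊤ : Submodule S M))
  letI : Module (S ⧸ maximalIdeal S) V := Module.instQuotientIdealSubmoduleHSMulTop M (maximalIdeal S)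
  letI : Field (S ⧸ maximalIdeal S) := Ideal.Quotient.field _
  have : Module.Finite (S ⧸ maximalIdeal S) V := by
    have : IsScalarTower S (S ⧸ maximalIdeal S) V := inferInstance
    exact Module.Finite.of_restrictScalars_finite S _ _
  let v := Module.finBasis (S ⧸ maximalIdeal S) V
  set n := Module.finrank (S ⧸ maximalIdeal S) V
  choose e he using fun i => Submodule.mkQ_surjective (maximalIdeal S • (⊤ : Submodule S M)) (v i)
  have hli : LinearIndependent S e := by
    rw [Fintype.linearIndependent_iff]
    intro g hg
    refine linearIndependent_of_colon H n e ?_ g hg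
    intro c hc i
    have h1 : ∑ i, (Ideal.Quotient.mk (maximalIdeal S) (c i)) • v i = 0 := by
      rw [← (Submodule.Quotient.mk_eq_zero (maximalIdeal S • (⊤ : Submodule S M))
        (x := ∑ i, c i • e i))] at hc
      rw [← hc]
      change _ = (maximalIdeal S • (⊤ : Submodule S M)).mkQ (∑ i, c i • e i)
      rw [map_sum]
      refine Finset.sum_congr rfl fun j _ => ?_
      rw [map_smul, he]
      rfl
    have h2 := (Fintype.linearIndependent_iff.1 v.linearIndependent) _ h1 i
    exact Ideal.Quotient.eq_zero_iff_mem.1 h2
  have hsp : ⊤ ≤ Submodule.span S (Set.range e) := by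
    refine Submodule.le_of_le_smul_of_le_jacobson_bot (I := maximalIdeal S)
      Module.Finite.fg_top (IsLocalRing.maximalIdeal_le_jacobson _) ?_
    intro m _
    have h1 := v.sum_repr ((maximalIdeal S • (⊤ : Submodule S M)).mkQ m)
    choose c hc using fun i => Ideal.Quotient.mk_surjective (v.repr
      ((maximalIdeal S • (⊤ : Submodule S M)).mkQ m) i)
    have h2 : m - ∑ i, c i • e i ∈ maximalIdeal S • (⊤ : Submodule S M) := by
      rw [← Submodule.Quotient.mk_eq_zero]
      change (maximalIdeal S • (⊤ : Submodule S M)).mkQ _ = 0
      rw [map_sub, map_sum, sub_eq_zero, ← h1]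
      refine Finset.sum_congr rfl fun j _ => ?_
      rw [map_smul, he, ← hc]
      rfl
    rw [← sub_add_cancel m (∑ i, c i • e i), add_comm]
    refine Submodule.add_mem_sup (Submodule.sum_mem _ fun i _ => ?_) h2
    exact Submodule.smul_mem _ _ (Submodule.subset_span ⟨i, rfl⟩)
  exact Module.Free.of_basis (Module.Basis.mk hli hsp)

end K676.Free
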