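import Mathlib.RingTheory.RegularLocalRing.Defs
import Mathlib.RingTheory.MvPolynomial.Homogeneous
import Mathlib.RingTheory.KrullDimension.Polynomial
import Mathlib.RingTheory.KrullDimension.NonZeroDivisors
import Mathlib.LinearAlgebra.Dimension.StrongRankCondition
import Mathlib.RingTheory.Ideal.KrullsHeightTheorem
import Mathlib.RingTheory.GradedAlgebra.Basic
import Mathlib.RingTheory.LocalRing.ResidueField.Ideal

/-!
# Graded subalgebras of a polynomial ring that are regular at the origin

`exists_algEquiv`: a Noetherian subalgebra `S` of a polynomial ring over a field that is closed under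
homogeneous components and whose local ring at the origin is regular is a polynomial ring.
-/

set_option autoImplicit false

universe u v

namespace K676.GradedPoly

open MvPolynomial IsLocalRing

variable {k : Type u} [Field k] {ι : Type v}

section Comp

lemma homogeneousComponent_mul_right {e : ℕ} {b : MvPolynomial ι k} (hb : b.IsHomogeneous e)
    (a : MvPolynomial ι k) (n : ℕ) : homogeneousComponent n (a * b) =
      if e ≤ n then homogeneousComponent (n - e) a * b else 0 := by
  classical
  let := MvPolynomial.gradedAlgebra (R := k) (σ := ι)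
  have h1 := fun c : MvPolynomial ι k => fun i =>
    (MvPolynomial.decomposition.decompose'_apply (R := k) (σ := ι) c i)
  split_ifs with h
  · rw [← h1, ← h1]
    exact DirectSum.coe_decompose_mul_of_right_mem_of_le (homogeneousSubmodule ι k) hb h
  · rw [← h1]
    exact DirectSum.coe_decompose_mul_of_right_mem_of_not_le (homogeneousSubmodule ι k) hb h

end Comp

variable (S : Subalgebra k (MvPolynomial ι k))
  (hS : ∀ f ∈ S, ∀ d, homogeneousComponent d f ∈ S)
  (p : Ideal S) (hp : ∀ s : S, s ∈ p ↔ constantCoeff (s : MvPolynomial ι k) = 0)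

include hS in
/-- graded Nakayama -/
lemma exists_coeff_of_smul_mem {m : ℕ} (f : Fin m → S) (e : Fin m → ℕ)
    (hf : ∀ i, (f i : MvPolynomial ι k).IsHomogeneous (e i)) (t : S)
    (ht : constantCoeff (t : MvPolynomial ι k) ≠ 0) (s : S) (d : ℕ)
    (hs : (s : MvPolynomial ι k).IsHomogeneous d) (h : t * s ∈ Ideal.span (Set.range f)) :
    ∃ a : Fin m → S, (∀ i, (a i : MvPolynomial ι k).IsHomogeneous (d - e i)) ∧
      (∀ i, ¬ e i ≤ d → a i = 0) ∧ s = ∑ i, a i * f i := by
  rw [Ideal.mem_span_range_iff_exists_fun] at h
  obtain ⟨b, hb⟩ := h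
  set c := constantCoeff (t : MvPolynomial ι k) with hc
  let a : Fin m → S := fun i => if e i ≤ d then
    c⁻¹ • ⟨homogeneousComponent (d - e i) (b i : MvPolynomial ι k), hS _ (b i).2 _⟩ else 0
  refine ⟨a, fun i => ?_, fun i hi => if_neg hi, ?_⟩
  · simp only [a]
    split_ifs with h
    · change (c⁻¹ • homogeneousComponent (d - e i) (b i : MvPolynomial ι k)).IsHomogeneous _
      exact Submodule.smul_mem (homogeneousSubmodule ι k (d - e i)) _
        (homogeneousComponent_isHomogeneous _ _)
    · exact isHomogeneous_zero _ _ _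
  · have h1 := congrArg (fun z : S => homogeneousComponent d (z : MvPolynomial ι k)) hb
    beta_reduce at h1
    rw [Subalgebra.coe_mul, homogeneousComponent_mul_right hs, if_pos le_rfl, Nat.sub_self,
      homogeneousComponent_zero] at h1
    have h2 : coeff 0 (t : MvPolynomial ι k) = c := rfl
    rw [h2] at h1
    apply Subtype.ext
    have h3 : (s : MvPolynomial ι k) = C c⁻¹ * (C c * (s : MvPolynomial ι k)) := by
      rw [← mul_assoc, ← C_mul, inv_mul_cancel₀ ht, C_1, one_mul]
    rw [h3, ← h1, AddSubmonoidClass.coe_finsetSum, AddSubmonoidClass.coe_finsetSum, map_sum,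
      Finset.mul_sum]
    refine Finset.sum_congr rfl fun i _ => ?_
    rw [Subalgebra.coe_mul, homogeneousComponent_mul_right (hf i), Subalgebra.coe_mul]
    simp only [a]
    split_ifs with h
    · change _ = (c⁻¹ • homogeneousComponent (d - e i) (b i : MvPolynomial ι k)) * _
      rw [smul_eq_C_mul, mul_assoc]
    · simp

include hS hp in
/-- `S` is generated by homogeneous elements generating the origin. -/
lemma adjoin_eq_top {m : ℕ} (f : Fin m → S) (e : Fin m → ℕ)
    (hf : ∀ i, (f i : MvPolynomial ι k).IsHomogeneous (e i)) (he : ∀ i, 0 < e i)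
    (h : ∀ s ∈ p, ∃ t ∉ p, t * s ∈ Ideal.span (Set.range f)) :
    Algebra.adjoin k (Set.range f) = ⊤ := by
  have key : ∀ (d : ℕ) (s : S), (s : MvPolynomial ι k).IsHomogeneous d →
      s ∈ Algebra.adjoin k (Set.range f) := by
    intro d
    induction d using Nat.strong_induction_on with
    | _ d ih =>
      intro s hs
      rcases Nat.eq_zero_or_pos d with rfl | hd
      · have h1 : s = algebraMap k S (coeff 0 (s : MvPolynomial ι k)) := by
          apply Subtype.ext
          have h2 := homogeneousComponent_zero (s : MvPolynomial ι k)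
          rw [homogeneousComponent_of_mem (n := 0) hs, if_pos rfl] at h2
          rw [h2]
          simp [algebraMap_eq]
        rw [h1]
        exact Subalgebra.algebraMap_mem _ _
      · have hsp : s ∈ p := by
          rw [hp, constantCoeff_eq]
          exact hs.coeff_eq_zero (by simpa using hd.ne)
        obtain ⟨t, ht, hts⟩ := h s hsp
        rw [hp] at ht
        obtain ⟨a, ha, ha0, has⟩ := exists_coeff_of_smul_mem S hS f e hf t ht s d hs hts
        rw [has]
        refine sum_mem fun i _ => ?_
        by_cases hi : e i ≤ d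
        · exact mul_mem (ih (d - e i) (by have := he i; omega) (a i) (ha i))
            (Algebra.subset_adjoin ⟨i, rfl⟩)
        · rw [ha0 i hi, zero_mul]
          exact zero_mem _
  rw [eq_top_iff]
  rintro s -
  have h1 : s = ∑ i ∈ Finset.range ((s : MvPolynomial ι k).totalDegree + 1),
      ⟨homogeneousComponent i (s : MvPolynomial ι k), hS _ s.2 i⟩ := by
    apply Subtype.ext
    rw [AddSubmonoidClass.coe_finsetSum]
    exact (sum_homogeneousComponent (s : MvPolynomial ι k)).symm
  rw [h1]
  exact sum_mem fun i _ => key i _ (homogeneousComponent_isHomogeneous _ _)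

include hS hp in
lemma exists_generators [p.IsPrime] (L : Type*) [CommRing L] [Algebra S L]
    [IsLocalization.AtPrime L p] [IsRegularLocalRing L] :
    ∃ (m : ℕ) (f : Fin m → S) (e : Fin m → ℕ), ringKrullDim L = m ∧
      (∀ i, (f i : MvPolynomial ι k).IsHomogeneous (e i)) ∧ (∀ i, 0 < e i) ∧
      (∀ i, f i ∈ p) ∧ ∀ s ∈ p, ∃ t ∉ p, t * s ∈ Ideal.span (Set.range f) := by
  have hmx : p.map (algebraMap S L) = maximalIdeal L :=
    IsLocalization.AtPrime.map_eq_maximalIdeal p L
  let κ := ResidueField L
  let Ct := CotangentSpace L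
  have hmem : ∀ s ∈ p, algebraMap S L s ∈ maximalIdeal L := by
    intro s hs
    rw [← hmx]
    exact Ideal.mem_map_of_mem _ hs
  let H : Set Ct := {c | ∃ (s : S) (hs : s ∈ p) (d : ℕ), (s : MvPolynomial ι k).IsHomogeneous d ∧
    c = (maximalIdeal L).toCotangent ⟨algebraMap S L s, hmem s hs⟩}
  have hHtop : Submodule.span κ H = ⊤ := by
    rw [eq_top_iff]
    rintro c -
    obtain ⟨⟨y, hy⟩, rfl⟩ := (maximalIdeal L).toCotangent_surjective c
    have key : ∀ y ∈ p.map (algebraMap S L), ∀ hy : y ∈ maximalIdeal L,
        ((maximalIdeal L).toCotangent ⟨y, hy⟩ : Ct) ∈ Submodule.span κ H := by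
      intro y hyp
      induction hyp using Submodule.span_induction with
      | mem y hy =>
        obtain ⟨s, hs, rfl⟩ := hy
        intro hy
        have hcomp : ∀ i, (⟨homogeneousComponent i (s : MvPolynomial ι k), hS _ s.2 i⟩ : S) ∈ p := by
          intro i
          have h1 := (hp s).1 hs
          rw [hp]
          change constantCoeff (homogeneousComponent i (s : MvPolynomial ι k)) = 0
          rw [constantCoeff_eq, coeff_homogeneousComponent]
          split_ifs
          · exact h1
          · rfl
        have h1 : s = ∑ i ∈ Finset.range ((s : MvPolynomial ι k).totalDegree + 1),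
            ⟨homogeneousComponent i (s : MvPolynomial ι k), hS _ s.2 i⟩ := by
          apply Subtype.ext
          rw [AddSubmonoidClass.coe_finsetSum]
          exact (sum_homogeneousComponent (s : MvPolynomial ι k)).symm
        have h2 : (⟨algebraMap S L s, hy⟩ : maximalIdeal L) =
            ∑ i ∈ Finset.range ((s : MvPolynomial ι k).totalDegree + 1),
              ⟨algebraMap S L ⟨homogeneousComponent i (s : MvPolynomial ι k), hS _ s.2 i⟩,
                hmem _ (hcomp i)⟩ := by
          apply Subtype.ext
          rw [AddSubmonoidClass.coe_finsetSum]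
          change algebraMap S L s = _
          conv_lhs => rw [h1, map_sum]
        rw [h2, map_sum]
        exact Submodule.sum_mem _ fun i _ => Submodule.subset_span
          ⟨_, hcomp i, i, homogeneousComponent_isHomogeneous _ _, rfl⟩
      | zero =>
        intro hy
        have : (⟨0, hy⟩ : maximalIdeal L) = 0 := rfl
        rw [this, map_zero]
        exact zero_mem _
      | add a b ha hb iha ihb =>
        intro hy
        have ha' : a ∈ maximalIdeal L := by
          rw [← hmx]; exact ha
        have hb' : b ∈ maximalIdeal L := by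
          rw [← hmx]; exact hb
        have : (⟨a + b, hy⟩ : maximalIdeal L) = ⟨a, ha'⟩ + ⟨b, hb'⟩ := rfl
        rw [this, map_add]
        exact add_mem (iha ha') (ihb hb')
      | smul r a ha iha =>
        intro hy
        have ha' : a ∈ maximalIdeal L := by
          rw [← hmx]; exact ha
        have : (⟨r • a, hy⟩ : maximalIdeal L) = r • ⟨a, ha'⟩ := rfl
        rw [this, map_smul]
        have h3 : r • ((maximalIdeal L).toCotangent ⟨a, ha'⟩ : Ct) =
            (residue L r) • ((maximalIdeal L).toCotangent ⟨a, ha'⟩ : Ct) := rfl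
        rw [h3]
        exact Submodule.smul_mem _ _ (iha ha')
    exact key y (by rw [hmx]; exact hy) hy
  obtain ⟨f', hf'H, hf'span, hf'li⟩ := Submodule.exists_fun_fin_finrank_span_eq κ H
  have hfr : Module.finrank κ (Submodule.span κ H) = Module.finrank κ Ct := by
    rw [hHtop]
    exact finrank_top κ Ct
  choose f hfp e he hf' using hf'H
  have hdim := (IsRegularLocalRing.iff_finrank_cotangentSpace L).1
    (inferInstance : IsRegularLocalRing L)
  refine ⟨_, f, e, ?_, he, fun i => ?_, hfp, ?_⟩
  · rw [hfr]
    exact hdim.symm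
  · rcases Nat.eq_zero_or_pos (e i) with h0 | h0
    · exfalso
      have h1 : f i = 0 := by
        apply Subtype.ext
        have h2 := homogeneousComponent_zero (f i : MvPolynomial ι k)
        rw [homogeneousComponent_of_mem (n := e i) (he i), if_pos h0.symm] at h2
        have h3 := (hp (f i)).1 (hfp i)
        rw [constantCoeff_eq] at h3
        rw [h2, h3, C_0]
        rfl
      apply hf'li.ne_zero i
      rw [hf' i]
      have h4 : (⟨algebraMap S L (f i), hmem _ (hfp i)⟩ : maximalIdeal L) = 0 := by
        apply Subtype.ext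
        change algebraMap S L (f i) = 0
        rw [h1, map_zero]
      rw [h4, map_zero]
    · exact h0
  · have h1 : Submodule.span L (Set.range fun i =>
        (⟨algebraMap S L (f i), hmem _ (hfp i)⟩ : maximalIdeal L)) = ⊤ := by
      rw [← CotangentSpace.span_image_eq_top_iff]
      refine Eq.trans ?_ (hf'span.trans hHtop)
      congr 1
      ext c
      constructor
      · rintro ⟨_, ⟨i, rfl⟩, rfl⟩
        exact ⟨i, hf' i⟩
      · rintro ⟨i, rfl⟩
        exact ⟨_, ⟨i, rfl⟩, (hf' i).symm⟩
    intro s hs
    have h2 : (⟨algebraMap S L s, hmem s hs⟩ : maximalIdeal L) ∈ Submodule.span L (Set.range fun i =>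
        (⟨algebraMap S L (f i), hmem _ (hfp i)⟩ : maximalIdeal L)) := by rw [h1]; trivial
    have h3 : algebraMap S L s ∈ (Ideal.span (Set.range f)).map (algebraMap S L) := by
      have h4 := Submodule.mem_map_of_mem (f := (maximalIdeal L).subtype) h2
      rw [Submodule.map_span] at h4
      rw [Ideal.map_span]
      refine Submodule.span_mono ?_ h4
      rintro _ ⟨_, ⟨i, rfl⟩, rfl⟩
      exact ⟨f i, ⟨i, rfl⟩, rfl⟩
    obtain ⟨t, ht, h5⟩ := (IsLocalization.algebraMap_mem_map_algebraMap_iff p.primeCompl L _ _).1 h3
    exact ⟨t, ht, h5⟩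

include hS hp in
/-- **Graded subalgebras regular at the origin are polynomial rings.** -/
theorem exists_algEquiv [p.IsPrime] [IsRegularLocalRing (Localization.AtPrime p)] :
    ∃ m : ℕ, Nonempty (S ≃ₐ[k] MvPolynomial (Fin m) k) := by
  obtain ⟨m, f, e, hdim, hf, he, hfp, hgen⟩ :=
    exists_generators S hS p hp (Localization.AtPrime p)
  have hadj := adjoin_eq_top S hS p hp f e hf he hgen
  refine ⟨m, ⟨(AlgEquiv.ofBijective (MvPolynomial.aeval f) ⟨?_, ?_⟩).symm⟩⟩
  · rw [injective_iff_map_eq_zero]
    intro q hq
    by_contra hq0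
    have hsurj : Function.Surjective (MvPolynomial.aeval f : MvPolynomial (Fin m) k →ₐ[k] S) := by
      rw [← AlgHom.range_eq_top, ← Algebra.adjoin_range_eq_range_aeval, hadj]
    have h1 := ringKrullDim_succ_le_of_surjective
      (MvPolynomial.aeval f : MvPolynomial (Fin m) k →ₐ[k] S).toRingHom hsurj
      (mem_nonZeroDivisors_of_ne_zero hq0) hq
    rw [MvPolynomial.ringKrullDim_of_isNoetherianRing, ringKrullDim_eq_zero_of_field] at h1
    have h2 : ringKrullDim (Localization.AtPrime p) ≤ ringKrullDim S := by
      rw [IsLocalization.AtPrime.ringKrullDim_eq_height p (Localization.AtPrime p)]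
      exact Ideal.height_le_ringKrullDim_of_ne_top (Ideal.IsPrime.ne_top inferInstance)
    rw [hdim] at h2
    have h3 : ((m + 1 : ℕ) : WithBot ℕ∞) ≤ (m : ℕ) := by
      have h4 := (add_le_add_left h2 1).trans h1
      simpa [add_comm] using h4
    have h5 : m + 1 ≤ m := by exact_mod_cast h3
    omega
  · rw [← AlgHom.range_eq_top, ← Algebra.adjoin_range_eq_range_aeval, hadj]

end K676.GradedPoly
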