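import Groth.Agent.GLin.K676.RegPt
import Groth.Agent.GLin.K676.GradedPoly
import Groth.Agent.GIT.K691.HomogInv
import Mathlib.RingTheory.MvPolynomial.Ideal
import Mathlib.RingTheory.Smooth.StandardSmooth

/-!
# Linear actions generated by pseudo-reflections

* `isPseudoReflAt_of_isPseudoRefl`: pseudo-reflections of a linear action are pseudo-reflections at
  the origin.
* `exists_algEquiv_invariants`: the Chevalley–Shephard–Todd theorem for finite linearly reductive
  group schemes.
-/

set_option autoImplicit false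

universe u

open TensorProduct HopfRep MvPolynomial

namespace K676.CST

open Groth.Agent.Books.ComodBasic Groth.Agent.Books.ComodHom Groth.Agent.Books.ComodInv
open K764.HopfMod

variable {k : Type u} [Field k] {ι : Type u}

/-- The origin. -/
noncomputable abbrev org (k : Type u) [Field k] (ι : Type u) : MvPolynomial ι k →ₐ[k] k :=
  GLin.vecPt k ι (fun _ => (0 : k))

lemma org_apply (f : MvPolynomial ι k) : org k ι f = coeff 0 f := by
  have : org k ι f = constantCoeff f := by
    change aeval (fun _ => (0 : k)) f = _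
    rw [show (fun _ => (0 : k)) = (0 : ι → k) from rfl, aeval_zero]
    rfl
  rw [this, constantCoeff_eq]

lemma ker_org : RingHom.ker (org k ι) = idealOfVars ι k := by
  ext f
  rw [RingHom.mem_ker, org_apply]
  have := mem_pow_idealOfVars_iff' (σ := ι) (R := k) 1 f
  rw [pow_one] at this
  rw [this]
  constructor
  · intro h x hx
    have : x = 0 := (Finsupp.degree_eq_zero_iff x).1 (by omega)
    rw [this, h]
  · intro h
    exact h 0 (by simp)

lemma mem_ker_sq_iff (f : MvPolynomial ι k) :
    f ∈ RingHom.ker (org k ι) ^ 2 ↔ ∀ x : ι →₀ ℕ, x.degree < 2 → coeff x f = 0 := by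
  rw [ker_org]
  exact mem_pow_idealOfVars_iff' 2 f

lemma eq_zero_of_linear {f : MvPolynomial ι k} (h1 : f.IsHomogeneous 1)
    (h2 : f ∈ RingHom.ker (org k ι) ^ 2) : f = 0 := by
  rw [mem_ker_sq_iff] at h2
  ext x
  rw [coeff_zero]
  by_cases hx : x.degree = 1
  · exact h2 x (by omega)
  · exact h1.coeff_eq_zero hx

lemma sub_homogeneousComponent_mem {f : MvPolynomial ι k} (h : f ∈ RingHom.ker (org k ι)) :
    f - homogeneousComponent 1 f ∈ RingHom.ker (org k ι) ^ 2 := by
  rw [RingHom.mem_ker, org_apply] at h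
  rw [mem_ker_sq_iff]
  intro x hx
  rw [coeff_sub, coeff_homogeneousComponent]
  split_ifs with h1
  · simp
  · have h0 : x = 0 := (Finsupp.degree_eq_zero_iff x).1 (by omega)
    rw [h0, h, sub_zero]

lemma linear_mem_ker {f : MvPolynomial ι k} (h1 : f.IsHomogeneous 1) :
    f ∈ RingHom.ker (org k ι) := by
  rw [RingHom.mem_ker, org_apply]
  exact h1.coeff_eq_zero (by simp)

variable [Fintype ι] {A : Type u} [CommRing A] [HopfAlgebra k A] [Comod k A (MvPolynomial ι k)]
  [GLin.IsCoactAlg k A (MvPolynomial ι k)]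

omit [Fintype ι] [GLin.IsCoactAlg k A (MvPolynomial ι k)] in
lemma mem_quotInvariants_iff_dact (I : Ideal A) (f : MvPolynomial ι k) :
    f ∈ GLin.quotInvariants k A (MvPolynomial ι k) I ↔ ∀ ψ : (A ⧸ I) →ₗ[k] k,
      dact (MvPolynomial ι k) (ψ ∘ₗ (Ideal.Quotient.mkₐ k I).toLinearMap) f = ψ 1 • f := by
  have key : ∀ ψ : (A ⧸ I) →ₗ[k] k, slice (MvPolynomial ι k) ψ
      ((Ideal.Quotient.mkₐ k I).toLinearMap.lTensor _ (Comod.coact (k := k) (A := A) f)) =
        dact _ (ψ ∘ₗ (Ideal.Quotient.mkₐ k I).toLinearMap) f := by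
    intro ψ
    rw [dact_apply]
    generalize Comod.coact (k := k) (A := A) f = z
    induction z with
    | zero => simp
    | add x y hx hy => simp only [map_add, hx, hy]
    | tmul v a => simp
  rw [GLin.mem_quotInvariants_iff]
  constructor
  · intro h ψ
    rw [← key, h, slice_tmul]
  · intro h
    refine ext_slice fun ψ => ?_
    rw [key, h, slice_tmul]

omit [Fintype ι] [GLin.IsCoactAlg k A (MvPolynomial ι k)] in
lemma mem_cotFixedLift_iff_dact (I : Ideal A) (f : MvPolynomial ι k) :
    f ∈ GLin.cotFixedLift k A (MvPolynomial ι k) (org k ι) I ↔ ∀ ψ : (A ⧸ I) →ₗ[k] k,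
      dact (MvPolynomial ι k) (ψ ∘ₗ (Ideal.Quotient.mkₐ k I).toLinearMap) f - ψ 1 • f ∈
        RingHom.ker (org k ι) ^ 2 := by
  set n := RingHom.ker (org k ι)
  have key : ∀ ψ : (A ⧸ I) →ₗ[k] k, slice (MvPolynomial ι k ⧸ n ^ 2) ψ
      (TensorProduct.map (Ideal.Quotient.mkₐ k (n ^ 2)).toLinearMap
        (Ideal.Quotient.mkₐ k I).toLinearMap (Comod.coact (k := k) (A := A) f)) =
        Ideal.Quotient.mk (n ^ 2) (dact _ (ψ ∘ₗ (Ideal.Quotient.mkₐ k I).toLinearMap) f) := by
    intro ψ
    rw [dact_apply]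
    generalize Comod.coact (k := k) (A := A) f = z
    induction z with
    | zero => simp
    | add x y hx hy => simp only [map_add, hx, hy]
    | tmul v a =>
      rw [TensorProduct.map_tmul, slice_tmul, slice_tmul]
      rfl
  have hmk : ∀ ψ : (A ⧸ I) →ₗ[k] k, (dact (MvPolynomial ι k)
      (ψ ∘ₗ (Ideal.Quotient.mkₐ k I).toLinearMap) f - ψ 1 • f ∈ n ^ 2 ↔
      Ideal.Quotient.mk (n ^ 2) (dact _ (ψ ∘ₗ (Ideal.Quotient.mkₐ k I).toLinearMap) f) =
        ψ 1 • Ideal.Quotient.mkₐ k (n ^ 2) f) := by
    intro ψ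
    rw [← Ideal.Quotient.eq_zero_iff_mem, map_sub, sub_eq_zero]
    rfl
  simp only [hmk, ← key]
  change TensorProduct.map (Ideal.Quotient.mkₐ k (n ^ 2)).toLinearMap
    (Ideal.Quotient.mkₐ k I).toLinearMap (Comod.coact (k := k) (A := A) f) =
      (Ideal.Quotient.mkₐ k (n ^ 2) f) ⊗ₜ[k] (1 : A ⧸ I) ↔ _
  constructor
  · intro h ψ
    rw [h, slice_tmul]
  · intro h
    refine ext_slice fun ψ => ?_
    rw [h, slice_tmul]

/-- Pseudo-reflections of a linear action are pseudo-reflections at the origin. -/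
theorem isPseudoReflAt_of_isPseudoRefl (hlin : GLin.IsLinear k A ι) (I : Ideal A)
    (hI : GLin.IsPseudoRefl k A ι I) : GLin.IsPseudoReflAt k A (MvPolynomial ι k) (org k ι) I := by
  refine ⟨hI.1, ?_⟩
  set n := RingHom.ker (org k ι) with hn
  let g : GLin.linForms k ι →ₗ[k] (MvPolynomial ι k ⧸ n ^ 2) :=
    (Ideal.Quotient.mkₐ k (n ^ 2)).toLinearMap ∘ₗ (GLin.linForms k ι).subtype
  have hg : Function.Injective g := by
    rw [injective_iff_map_eq_zero]
    intro v hv
    apply Subtype.ext
    exact eq_zero_of_linear v.2 (Ideal.Quotient.eq_zero_iff_mem.1 hv)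
  have hsub := K691.HomogInv.isSubcomod_homogeneousSubmodule (A := A) hlin 1
  have hst : Stable k A n := stable_ker (k := k) (A := A) (K691.HomogInv.orbitHom_origin hlin)
  have h1 : GLin.cotSpace k (MvPolynomial ι k) (org k ι) = LinearMap.range g := by
    ext q
    constructor
    · rintro ⟨r, hr, rfl⟩
      refine ⟨⟨homogeneousComponent 1 r, homogeneousComponent_isHomogeneous _ _⟩, ?_⟩
      have h2 := sub_homogeneousComponent_mem (k := k) (ι := ι) hr
      rw [← Ideal.Quotient.eq_zero_iff_mem, map_sub, sub_eq_zero] at h2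
      exact h2.symm
    · rintro ⟨v, rfl⟩
      exact ⟨v, linear_mem_ker v.2, rfl⟩
  have h2 : GLin.cotFixed k A (MvPolynomial ι k) (org k ι) I =
      Submodule.map g ((GLin.quotInvariants k A (MvPolynomial ι k) I).comap
        (GLin.linForms k ι).subtype) := by
    ext q
    constructor
    · rintro ⟨r, ⟨hr, hrl⟩, rfl⟩
      have h3 := sub_homogeneousComponent_mem (k := k) (ι := ι) hr
      refine ⟨⟨homogeneousComponent 1 r, homogeneousComponent_isHomogeneous _ _⟩, ?_, ?_⟩
      · change homogeneousComponent 1 r ∈ GLin.quotInvariants k A (MvPolynomial ι k) I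
        rw [mem_quotInvariants_iff_dact]
        intro ψ
        have h4 := (mem_cotFixedLift_iff_dact I r).1 hrl ψ
        set φ := ψ ∘ₗ (Ideal.Quotient.mkₐ k I).toLinearMap
        rw [← sub_eq_zero]
        refine eq_zero_of_linear (k := k) (ι := ι) (Submodule.sub_mem _
          ((isSubcomod_iff_dact _).1 hsub φ _ (homogeneousComponent_mem 1 r))
          (Submodule.smul_mem (homogeneousSubmodule ι k 1) _ (homogeneousComponent_mem 1 r))) ?_
        have h5 : dact (MvPolynomial ι k) φ (homogeneousComponent 1 r) -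
            ψ 1 • homogeneousComponent 1 r = (dact (MvPolynomial ι k) φ r - ψ 1 • r) -
              (dact (MvPolynomial ι k) φ (r - homogeneousComponent 1 r) -
                ψ 1 • (r - homogeneousComponent 1 r)) := by
          rw [map_sub, smul_sub]
          abel
        rw [h5]
        refine sub_mem h4 (sub_mem ((stable_iff _).1 (hst.pow 2) φ _ h3) ?_)
        rw [smul_eq_C_mul]
        exact Ideal.mul_mem_left _ _ h3
      · rw [← Ideal.Quotient.eq_zero_iff_mem, map_sub, sub_eq_zero] at h3
        exact h3.symm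
    · rintro ⟨v, hv, rfl⟩
      refine ⟨v, ⟨linear_mem_ker v.2, ?_⟩, rfl⟩
      refine (mem_cotFixedLift_iff_dact I (v : MvPolynomial ι k)).2 fun ψ => ?_
      have hv' : (v : MvPolynomial ι k) ∈ GLin.quotInvariants k A (MvPolynomial ι k) I := hv
      rw [mem_quotInvariants_iff_dact] at hv'
      rw [hv' ψ, sub_self]
      exact zero_mem _
  rw [h1, h2, LinearMap.finrank_range_of_inj hg, ← hI.2,
    (Submodule.equivMapOfInjective g hg _).finrank_eq.symm]
  congr 1
  have h3 := Submodule.map_comap_subtype (GLin.linForms k ι)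
    (GLin.quotInvariants k A (MvPolynomial ι k) I)
  rw [← h3]
  exact (Submodule.equivMapOfInjective (GLin.linForms k ι).subtype
    (Submodule.injective_subtype _) _).finrank_eq

/-- **Chevalley–Shephard–Todd for finite linearly reductive group schemes.** -/
theorem exists_algEquiv_invariants [Module.Finite k A] (hG : IsLinearlyReductive k A)
    (hsub : ∀ (I : Ideal A) [I.IsHopfIdeal k], IsLinearlyReductive k (A ⧸ I))
    (hlin : GLin.IsLinear k A ι) (hgen : GLin.IsGenByPseudoRefl k A ι) :
    ∃ m : ℕ, Nonempty (↥(GLin.invariants k A (MvPolynomial ι k)) ≃ₐ[k] MvPolynomial (Fin m) k) := by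
  have hx : GLin.IsFixedPt k A (org k ι) := K691.HomogInv.orbitHom_origin hlin
  have hgenAt : GLin.IsGenByPseudoReflAt k A (MvPolynomial ι k) (org k ι) := by
    rw [GLin.IsGenByPseudoReflAt, eq_bot_iff, ← (show GLin.genIdeal k A ι = ⊥ from hgen)]
    refine sSup_le fun J hJ => le_sSup ⟨hJ.1, fun I hI => hJ.2 I ?_⟩
    exact isPseudoReflAt_of_isPseudoRefl hlin I hI
  have hsm : Algebra.Smooth k (MvPolynomial ι k) := ⟨inferInstance, inferInstance⟩
  have hreg : IsRegularLocalRing (Localization.AtPrime (my k A (org k ι))) :=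
    isRegularLocalRing_of_eq_my hG hsub hx hgenAt (my k A (org k ι)) rfl
  refine K676.GradedPoly.exists_algEquiv (GLin.invariants k A (MvPolynomial ι k))
    (fun f hf d => K691.HomogInv.homogeneousComponent_mem_invariants hlin d hf)
    (my k A (org k ι)) (fun s => ?_)
  change (s : MvPolynomial ι k) ∈ RingHom.ker (org k ι) ↔ _
  rw [RingHom.mem_ker, org_apply, constantCoeff_eq]

end K676.CST
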