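import Groth.Agent.GLin.K676.Stable

/-!
# Pseudo-reflections act trivially modulo a linear form

`exists_vec`: let a linearly reductive bialgebra `B` coact on the algebra `R`, `n` a stable ideal with
`R = k + n` whose cotangent space has invariants of codimension one.  Then there is `ℓ ∈ n ∖ n²` such
that `B` acts trivially modulo `(ℓ) + n ^ j` for every `j`.
`exists_vec_of_isPseudoReflAt`: the case of a pseudo-reflection ideal of a Hopf algebra.
-/

set_option autoImplicit false

universe u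

open TensorProduct HopfRep

namespace K676.CST

open Groth.Agent.Books.ComodBasic Groth.Agent.Books.ComodHom Groth.Agent.Books.ComodInv
open K764.HopfMod K764.Reductive TameAct

section General

variable {k : Type u} [Field k] {B : Type u} [CommRing B] [HopfAlgebra k B]
  {R : Type u} [CommRing R] [Algebra k R] [Comod k B R] [GLin.IsCoactAlg k B R]

/-- The combinatorial core: lifting the decomposition of `n / n²` to all powers. -/
theorem mem_of_decomp (n : Ideal R) (hk : ∀ r : R, ∃ c : k, r - algebraMap k R c ∈ n)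
    (ℓ : R) (h1 : ∀ y ∈ n, ∃ t ∈ GLin.invariants k B R, t ∈ n ∧ ∃ s : R, y - t - s * ℓ ∈ n ^ 2) :
    ∀ (j : ℕ) (r : R), ∃ t ∈ GLin.invariants k B R, r - t ∈ Ideal.span {ℓ} ⊔ n ^ j := by
  have hC : ∀ (j : ℕ), ∀ y ∈ n ^ j, ∃ t ∈ GLin.invariants k B R, t ∈ n ^ j ∧
      y - t ∈ Ideal.span {ℓ} ⊔ n ^ (j + 1) := by
    intro j
    induction j with
    | zero =>
      intro y _
      obtain ⟨c, hc⟩ := hk y
      exact ⟨algebraMap k R c, Subalgebra.algebraMap_mem _ c, by simp,
        Ideal.mem_sup_right (by simpa using hc)⟩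
    | succ j ih =>
      intro y hy
      rw [pow_succ] at hy
      refine Submodule.smul_induction_on hy ?_ ?_
      · intro a ha b hb
        obtain ⟨t, ht, htn, hat⟩ := ih a ha
        obtain ⟨t', ht', htn', s, hs⟩ := h1 b hb
        refine ⟨t * t', mul_mem ht ht', ?_, ?_⟩
        · rw [pow_succ]; exact Ideal.mul_mem_mul htn htn'
        · have e : a • b - t * t' = (a - t) * b + (s * t) * ℓ + t * (b - t' - s * ℓ) := by
            rw [smul_eq_mul]; ring
          rw [e]
          refine add_mem (add_mem ?_ ?_) ?_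
          · obtain ⟨p, hp, q, hq, hpq⟩ := Submodule.mem_sup.1 hat
            rw [← hpq, add_mul]
            refine Submodule.add_mem_sup (Ideal.mul_mem_right _ _ hp) ?_
            rw [pow_succ n (j + 1)]
            exact Ideal.mul_mem_mul hq hb
          · exact Ideal.mem_sup_left (Ideal.mul_mem_left _ _ (Ideal.mem_span_singleton_self ℓ))
          · refine Ideal.mem_sup_right ?_
            have e2 : n ^ (j + 1 + 1) = n ^ j * n ^ 2 := by rw [← pow_add]
            rw [e2]
            exact Ideal.mul_mem_mul htn hs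
      · rintro a b ⟨t, ht, htn, hat⟩ ⟨t', ht', htn', hbt⟩
        refine ⟨t + t', add_mem ht ht', add_mem htn htn', ?_⟩
        have e : a + b - (t + t') = (a - t) + (b - t') := by ring
        rw [e]
        exact add_mem hat hbt
  intro j
  induction j with
  | zero => exact fun r => ⟨0, zero_mem _, by simp⟩
  | succ j ih =>
    intro r
    obtain ⟨t, ht, hrt⟩ := ih r
    obtain ⟨p, hp, q, hq, hpq⟩ := Submodule.mem_sup.1 hrt
    obtain ⟨t', ht', -, hqt⟩ := hC j q hq
    refine ⟨t + t', add_mem ht ht', ?_⟩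
    have e : r - (t + t') = p + (q - t') := by rw [← sub_sub, ← hpq]; ring
    rw [e]
    exact add_mem (Ideal.mem_sup_left hp) hqt

theorem exists_vec (hB : IsLinearlyReductive k B) (n : Ideal R) (hn : Stable k B n)
    (hk : ∀ r : R, ∃ c : k, r - algebraMap k R c ∈ n)
    (hcodim : letI := quotIdealComod (k := k) (A := B) (n ^ 2) (hn.pow 2)
      Module.finrank k ↥((n.restrictScalars k).map (Ideal.Quotient.mkₐ k (n ^ 2)).toLinearMap ⊓
        fixedPts k B (R ⧸ n ^ 2)) + 1 =
      Module.finrank k ↥((n.restrictScalars k).map (Ideal.Quotient.mkₐ k (n ^ 2)).toLinearMap)) :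
    ∃ ℓ ∈ n, ℓ ∉ n ^ 2 ∧ ∀ (φ : B →ₗ[k] k) (r : R) (j : ℕ),
      dact R φ r - φ 1 • r ∈ Ideal.span {ℓ} ⊔ n ^ j := by
  let := quotIdealComod (k := k) (A := B) (n ^ 2) (hn.pow 2)
  have hmk : IsComodHom k B (Ideal.Quotient.mkₐ k (n ^ 2)).toLinearMap :=
    isComodHom_mk (n ^ 2) (hn.pow 2)
  set mk := (Ideal.Quotient.mkₐ k (n ^ 2)).toLinearMap with hmkdef
  have hker : ∀ r : R, mk r = 0 ↔ r ∈ n ^ 2 := fun r => Ideal.Quotient.eq_zero_iff_mem
  set C := (n.restrictScalars k).map mk with hC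
  set F := C ⊓ fixedPts k B (R ⧸ n ^ 2) with hF
  have hfinC : Module.Finite k C := Module.finite_of_finrank_pos (by rw [← hcodim]; omega)
  have hsC : IsSubcomod (k := k) (A := B) C := IsComodHom.map hmk hn
  have hsF : IsSubcomod (k := k) (A := B) F := IsSubcomod.inf hsC isSubcomod_fixedPts
  obtain ⟨W, hsW, hW⟩ := K688.Reynolds.exists_isCompl_isSubcomod hB F hsF
  set L := W ⊓ C with hL
  have hsL : IsSubcomod (k := k) (A := B) L := IsSubcomod.inf hsW hsC
  have hFC : F ≤ C := inf_le_left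
  have hsup : F ⊔ L = C := by
    rw [hL, ← sup_inf_assoc_of_le W hFC, hW.sup_eq_top, top_inf_eq]
  have hinf : F ⊓ L = ⊥ := by
    rw [eq_bot_iff, ← hW.inf_eq_bot]
    exact inf_le_inf_left _ inf_le_left
  have hfinF : Module.Finite k F := Submodule.finiteDimensional_of_le hFC
  have hfinL : Module.Finite k L := Submodule.finiteDimensional_of_le (inf_le_right : L ≤ C)
  have hdimL : Module.finrank k L = 1 := by
    have h1 := Submodule.finrank_sup_add_finrank_inf_eq F L
    rw [hsup, hinf, finrank_bot, add_zero, ← hcodim] at h1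
    omega
  obtain ⟨v, hv0, hv⟩ := finrank_eq_one_iff'.1 hdimL
  have hLspan : L = Submodule.span k {(v : R ⧸ n ^ 2)} := by
    apply le_antisymm
    · intro w hw
      obtain ⟨c, hc⟩ := hv ⟨w, hw⟩
      rw [Submodule.mem_span_singleton]
      exact ⟨c, congrArg Subtype.val hc⟩
    · rw [Submodule.span_singleton_le_iff_mem]
      exact v.2
  obtain ⟨a, ha⟩ := exists_coact_eq_tmul (k := k) (A := B) (v := (v : R ⧸ n ^ 2))
    (by rw [← hLspan]; exact hsL)
  -- lift `v` to an eigenvector in `n`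
  have hvC : (v : R ⧸ n ^ 2) ∈ C := (inf_le_right : L ≤ C) v.2
  obtain ⟨y, hy, hyv⟩ := hvC
  let := subComod (k := k) (A := B) (n.restrictScalars k) hn
  have hsub : IsComodHom k B (n.restrictScalars k).subtype := isComodHom_subtype _ hn
  obtain ⟨ℓ, hℓ, hℓv⟩ := exists_eigenspace_lift hB (hmk.comp hsub) (w := (v : R ⧸ n ^ 2)) (a := a)
    (by rw [mem_eigenspace_iff]; exact ha) (v := ⟨y, hy⟩) hyv
  have hℓR : (ℓ : R) ∈ eigenspace k B R a := IsComodHom.map_mem_eigenspace hsub hℓ
  have hℓn2 : (ℓ : R) ∉ n ^ 2 := by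
    intro h
    rw [← hker] at h
    apply hv0
    apply Subtype.ext
    rw [← hℓv]
    exact h
  refine ⟨ℓ, ℓ.2, hℓn2, fun φ r j => ?_⟩
  have h1 : ∀ y ∈ n, ∃ t ∈ GLin.invariants k B R, t ∈ n ∧ ∃ s : R,
      y - t - s * (ℓ : R) ∈ n ^ 2 := by
    intro y hy
    have h2 : mk y ∈ F ⊔ L := by rw [hsup]; exact ⟨y, hy, rfl⟩
    obtain ⟨f, hf, l, hl, hfl⟩ := Submodule.mem_sup.1 h2
    obtain ⟨z, hz, hzf⟩ := hf.1
    obtain ⟨t, ht, htf⟩ := exists_fixed_lift hB (hmk.comp hsub) (w := f) hf.2 (v := ⟨z, hz⟩) hzf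
    rw [hLspan, Submodule.mem_span_singleton] at hl
    obtain ⟨c, hc⟩ := hl
    refine ⟨t, IsComodHom.map_mem_fixedPts hsub ht, t.2, algebraMap k R c, ?_⟩
    rw [← hker, map_sub, map_sub]
    have h3 : mk (algebraMap k R c * (ℓ : R)) = c • (v : R ⧸ n ^ 2) := by
      rw [← Algebra.smul_def, map_smul, ← hℓv]
      rfl
    have h4 : mk (t : R) = f := htf
    rw [h3, hc, h4, ← hfl]
    abel
  obtain ⟨t, ht, hrt⟩ := mem_of_decomp (k := k) (B := B) n hk (ℓ : R) h1 j r
  have hst : Stable k B (Ideal.span {(ℓ : R)} ⊔ n ^ j) := by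
    refine Stable.sup ?_ (hn.pow j)
    rw [stable_iff]
    intro φ r hr
    obtain ⟨b, rfl⟩ := Ideal.mem_span_singleton'.1 hr
    rw [dact_apply, GLin.IsCoactAlg.coact_mul, (mem_eigenspace_iff (ℓ : R) a).1 hℓR]
    generalize Comod.coact (k := k) (A := B) b = z
    induction z with
    | zero => simp
    | add z w hz hw => rw [add_mul, map_add]; exact add_mem hz hw
    | tmul b c =>
      rw [Algebra.TensorProduct.tmul_mul_tmul, slice_tmul, Algebra.smul_def]
      exact Ideal.mul_mem_left _ _ (Ideal.mul_mem_left _ _ (Ideal.mem_span_singleton_self _))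
  have h5 : dact R φ t = φ 1 • t := dact_of_mem_fixedPts φ ht
  have h6 : dact R φ r - φ 1 • r = dact R φ (r - t) - φ 1 • (r - t) := by
    rw [map_sub, h5, smul_sub]
    abel
  rw [h6]
  refine sub_mem ((stable_iff _).1 hst φ _ hrt) ?_
  rw [Algebra.smul_def]
  exact Ideal.mul_mem_left _ _ hrt

end General

section PsRefl

variable {k : Type u} [Field k] {A : Type u} [CommRing A] [HopfAlgebra k A]
  {R : Type u} [CommRing R] [Algebra k R] [Comod k A R] [GLin.IsCoactAlg k A R]

/-- The quotient map of a Hopf ideal as a coalgebra map. -/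
noncomputable abbrev quoMap (I : Ideal A) [I.IsHopfIdeal k] : A →ₗc[k] A ⧸ I :=
  (Bialgebra.Quotient.mkBialgHom (R := k) I).toCoalgHom

/-- The restricted coaction is multiplicative. -/
lemma isCoactAlg_push (I : Ideal A) [I.IsHopfIdeal k] :
    letI := pushComod (k := k) (A := A) R (quoMap I)
    GLin.IsCoactAlg k (A ⧸ I) R := by
  let := pushComod (k := k) (A := A) R (quoMap I)
  have h : ∀ r : R, Comod.coact (k := k) (A := A ⧸ I) r =
      Algebra.TensorProduct.map (AlgHom.id k R) (Ideal.Quotient.mkₐ k I)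
        (Comod.coact (k := k) (A := A) r) := fun r => rfl
  refine ⟨?_, fun f g => ?_⟩
  · rw [h, GLin.IsCoactAlg.coact_one, map_one]
  · rw [h, h, h, GLin.IsCoactAlg.coact_mul, map_mul]

omit [GLin.IsCoactAlg k A R] in
lemma dact_push (I : Ideal A) [I.IsHopfIdeal k] (φ : (A ⧸ I) →ₗ[k] k) (r : R) :
    letI := pushComod (k := k) (A := A) R (quoMap I)
    dact (A := A ⧸ I) R φ r = dact R (φ ∘ₗ (Ideal.Quotient.mkₐ k I).toLinearMap) r := by
  change slice R φ ((Ideal.Quotient.mkₐ k I).toLinearMap.lTensor R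
    (Comod.coact (k := k) (A := A) r)) = slice R _ (Comod.coact (k := k) (A := A) r)
  generalize Comod.coact (k := k) (A := A) r = z
  induction z with
  | zero => simp
  | add x y hx hy => simp only [map_add, hx, hy]
  | tmul v a => simp

theorem exists_vec_of_isPseudoReflAt {x : R →ₐ[k] k} (hx : GLin.IsFixedPt k A x)
    (I : Ideal A) [I.IsHopfIdeal k] (hI : IsLinearlyReductive k (A ⧸ I))
    (hcod : Module.finrank k ↥(GLin.cotFixed k A R x I) + 1 =
      Module.finrank k ↥(GLin.cotSpace k R x)) :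
    ∃ ℓ ∈ RingHom.ker x, ℓ ∉ RingHom.ker x ^ 2 ∧ ∀ (φ : (A ⧸ I) →ₗ[k] k) (r : R) (j : ℕ),
      dact R (φ ∘ₗ (Ideal.Quotient.mkₐ k I).toLinearMap) r - φ 1 • r ∈
        Ideal.span {ℓ} ⊔ RingHom.ker x ^ j := by
  let := pushComod (k := k) (A := A) R (quoMap I)
  have := isCoactAlg_push (k := k) (A := A) (R := R) I
  have hn : Stable k (A ⧸ I) (RingHom.ker x) := by
    rw [stable_iff]
    intro φ r hr
    rw [dact_push]
    exact (stable_iff _).1 (stable_ker hx) _ r hr
  obtain ⟨ℓ, h1, h2, h3⟩ := exists_vec (k := k) (B := A ⧸ I) (R := R) hI (RingHom.ker x) hn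
    (fun r => ker_sup_range x r) (by
      let := quotIdealComod (k := k) (A := A ⧸ I) (RingHom.ker x ^ 2) (hn.pow 2)
      have hmk : IsComodHom k (A ⧸ I) (Ideal.Quotient.mkₐ k (RingHom.ker x ^ 2)).toLinearMap :=
        isComodHom_mk (RingHom.ker x ^ 2) (hn.pow 2)
      have hlift : ∀ r : R, r ∈ GLin.cotFixedLift k A R x I ↔
          Ideal.Quotient.mkₐ k (RingHom.ker x ^ 2) r ∈
            fixedPts k (A ⧸ I) (R ⧸ RingHom.ker x ^ 2) := by
        intro r
        rw [mem_fixedPts_iff]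
        have h4 := hmk r
        rw [AlgHom.toLinearMap_apply] at h4
        rw [h4]
        change TensorProduct.map (Ideal.Quotient.mkₐ k (RingHom.ker x ^ 2)).toLinearMap
          (Ideal.Quotient.mkₐ k I).toLinearMap (Comod.coact (k := k) (A := A) r) =
            Ideal.Quotient.mkₐ k (RingHom.ker x ^ 2) r ⊗ₜ[k] (1 : A ⧸ I) ↔
          (Ideal.Quotient.mkₐ k (RingHom.ker x ^ 2)).toLinearMap.rTensor (A ⧸ I)
            ((Ideal.Quotient.mkₐ k I).toLinearMap.lTensor R
              (Comod.coact (k := k) (A := A) r)) = _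
        rw [← LinearMap.comp_apply (LinearMap.rTensor _ _), LinearMap.rTensor_comp_lTensor]
      have heq : (((RingHom.ker x).restrictScalars k).map
          (Ideal.Quotient.mkₐ k (RingHom.ker x ^ 2)).toLinearMap ⊓
            fixedPts k (A ⧸ I) (R ⧸ RingHom.ker x ^ 2)) = GLin.cotFixed k A R x I := by
        ext q
        constructor
        · rintro ⟨⟨r, hr, rfl⟩, hq⟩
          exact ⟨r, ⟨hr, (hlift r).2 hq⟩, rfl⟩
        · rintro ⟨r, ⟨hr, hr2⟩, rfl⟩
          exact ⟨⟨r, hr, rfl⟩, (hlift r).1 hr2⟩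
      change Module.finrank k ↥(((RingHom.ker x).restrictScalars k).map
          (Ideal.Quotient.mkₐ k (RingHom.ker x ^ 2)).toLinearMap ⊓
            fixedPts k (A ⧸ I) (R ⧸ RingHom.ker x ^ 2)) + 1 = _
      rw [heq]
      exact hcod)
  refine ⟨ℓ, h1, h2, fun φ r j => ?_⟩
  rw [← dact_push]
  exact h3 φ r j

end PsRefl

end K676.CST
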