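import Groth.Agent.GLin.K676.Free
import Groth.Agent.GLin.K676.Colon
import Groth.Agent.VarietyA.RegSmooth
import Groth.Agent.CalgA.RegLoc
import Groth.Agent.CalgA.RegBasic
import Mathlib.RingTheory.Localization.Finiteness
import Mathlib.RingTheory.Flat.Localization

/-!
# Regularity of the invariants at the image of a fixed point

* `isRegularLocalRing_of_colon`: a finite extension `S → R` with the colon property at `p = n ∩ S` and
  `R_n` regular has `S_p` regular.
* `isRegularLocalRing_of_eq_my`: if the pseudo-reflections at the fixed point `x` generate the finite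
  linearly reductive group, the local ring of the invariants below `x` is regular.
-/

set_option autoImplicit false

universe u

open TensorProduct HopfRep

namespace K676.CST

section Abstract

variable {S R : Type u} [CommRing S] [CommRing R] [Algebra S R] [Module.Finite S R]
  (p : Ideal S) [p.IsPrime]

/-- The localisation of `R` over the local ring is free, from the colon property. -/
theorem free_localization
    (hcol : ∀ (I₀ : Ideal S) (f : S), (∀ s, s ∉ p → s * f ∉ I₀) → ∀ g : R,
      algebraMap S R f * g ∈ I₀.map (algebraMap S R) → g ∈ p.map (algebraMap S R)) :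
    Module.Free (Localization.AtPrime p)
      (Localization (Algebra.algebraMapSubmonoid R p.primeCompl)) := by
  let Sp := Localization.AtPrime p
  let MR := Algebra.algebraMapSubmonoid R p.primeCompl
  let Rp := Localization MR
  have : Module.Finite Sp Rp := inferInstance
  refine K676.Free.free_of_colon fun I f g hfg hfI => ?_
  rw [Ideal.smul_top_eq_map] at hfg ⊢
  change f • g ∈ I.map (algebraMap Sp Rp) at hfg
  change g ∈ (IsLocalRing.maximalIdeal Sp).map (algebraMap Sp Rp)
  set I₀ := I.comap (algebraMap S Sp) with hI₀
  have hI : I₀.map (algebraMap S Sp) = I := IsLocalization.map_under p.primeCompl Sp I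
  have hmap : ∀ J : Ideal S, (J.map (algebraMap S Sp)).map (algebraMap Sp Rp) =
      (J.map (algebraMap S R)).map (algebraMap R Rp) := by
    intro J
    rw [Ideal.map_map, Ideal.map_map, ← IsScalarTower.algebraMap_eq S Sp Rp,
      ← IsScalarTower.algebraMap_eq S R Rp]
  obtain ⟨f₀, s, rfl⟩ := IsLocalization.exists_mk'_eq p.primeCompl f
  obtain ⟨g₀, t, rfl⟩ := IsLocalization.exists_mk'_eq MR g
  have h1 : algebraMap R Rp (algebraMap S R f₀ * g₀) ∈
      (I₀.map (algebraMap S R)).map (algebraMap R Rp) := by
    rw [← hmap, hI]
    have h2 : algebraMap R Rp (algebraMap S R f₀ * g₀) =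
        (algebraMap Sp Rp (algebraMap S Sp s) * algebraMap R Rp t) *
          (IsLocalization.mk' Sp f₀ s • IsLocalization.mk' Rp g₀ t) := by
      have h3 : algebraMap S Sp f₀ = IsLocalization.mk' Sp f₀ s * algebraMap S Sp s :=
        (IsLocalization.mk'_spec Sp f₀ s).symm
      have h4 : algebraMap R Rp g₀ = IsLocalization.mk' Rp g₀ t * algebraMap R Rp t :=
        (IsLocalization.mk'_spec Rp g₀ t).symm
      have h5 : algebraMap R Rp (algebraMap S R f₀) = algebraMap Sp Rp (algebraMap S Sp f₀) := by
        rw [← IsScalarTower.algebraMap_apply S Sp Rp, IsScalarTower.algebraMap_apply S R Rp]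
      rw [map_mul, h4, h5, h3, map_mul, Algebra.smul_def]
      ring
    rw [h2]
    exact Ideal.mul_mem_left _ _ hfg
  obtain ⟨m, hm, h6⟩ := (IsLocalization.algebraMap_mem_map_algebraMap_iff MR Rp _ _).1 h1
  obtain ⟨s', hs', rfl⟩ := hm
  have h7 : ∀ c, c ∉ p → c * (s' * f₀) ∉ I₀ := by
    intro c hc hcon
    apply hfI
    rw [← hI, IsLocalization.mk'_mem_map_algebraMap_iff]
    refine ⟨c * s', mul_mem hc hs', ?_⟩
    rw [mul_assoc]
    exact hcon
  have h8 := hcol I₀ (s' * f₀) h7 g₀ (by
    rw [map_mul, mul_assoc]
    exact h6)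
  rw [← Localization.AtPrime.map_eq_maximalIdeal, hmap, IsLocalization.mk'_mem_map_algebraMap_iff]
  refine ⟨1, one_mem _, ?_⟩
  rw [one_mul]
  exact h8

/-- **Regularity from the colon property.** -/
theorem isRegularLocalRing_of_colon [IsNoetherianRing S] (n : Ideal R) [n.IsPrime]
    [hreg : IsRegularLocalRing (Localization.AtPrime n)]
    (hp : p = n.comap (algebraMap S R))
    (hcol : ∀ (I₀ : Ideal S) (f : S), (∀ s, s ∉ p → s * f ∉ I₀) → ∀ g : R,
      algebraMap S R f * g ∈ I₀.map (algebraMap S R) → g ∈ p.map (algebraMap S R)) :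
    IsRegularLocalRing (Localization.AtPrime p) := by
  let Sp := Localization.AtPrime p
  let MR := Algebra.algebraMapSubmonoid R p.primeCompl
  let Rp := Localization MR
  let L := Localization.AtPrime n
  have hfree : Module.Free Sp Rp := free_localization p hcol
  have hSpN : IsNoetherianRing Sp := IsLocalization.isNoetherianRing p.primeCompl Sp inferInstance
  have hle : MR ≤ n.primeCompl := by
    rintro _ ⟨s, hs, rfl⟩ hcon
    apply hs
    rw [hp]
    exact hcon
  let := IsLocalization.localizationAlgebraOfSubmonoidLe Rp L MR n.primeCompl hle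
  have hst := IsLocalization.localization_isScalarTower_of_submonoid_le Rp L MR n.primeCompl hle
  have := IsLocalization.isLocalization_of_submonoid_le Rp L MR n.primeCompl hle
  have hflat1 : Module.Flat Rp L :=
    IsLocalization.flat L (n.primeCompl.map (algebraMap R Rp))
  let : Algebra Sp L := ((algebraMap Rp L).comp (algebraMap Sp Rp)).toAlgebra
  have : IsScalarTower Sp Rp L := IsScalarTower.of_algebraMap_eq fun _ => rfl
  have hflat : Module.Flat Sp L := Module.Flat.trans Sp Rp L
  have hloc : IsLocalHom (algebraMap Sp L) := by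
    refine ((IsLocalRing.local_hom_TFAE (algebraMap Sp L)).out 2 0).1 ?_
    rw [← Localization.AtPrime.map_eq_maximalIdeal, Ideal.map_map, Ideal.map_le_iff_le_comap]
    intro s hs
    rw [Ideal.mem_comap]
    have h1 : ((algebraMap Sp L).comp (algebraMap S Sp)) s = algebraMap R L (algebraMap S R s) := by
      change algebraMap Rp L (algebraMap Sp Rp (algebraMap S Sp s)) = _
      rw [← IsScalarTower.algebraMap_apply S Sp Rp, IsScalarTower.algebraMap_apply S R Rp,
        ← IsScalarTower.algebraMap_apply R Rp L]
    rw [h1, ← Localization.AtPrime.map_eq_maximalIdeal]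
    refine Ideal.mem_map_of_mem _ ?_
    rw [hp] at hs
    exact hs
  exact Groth.Agent.CalgA.RegLoc.isRegularLocalRing_of_flat Sp L

end Abstract

variable {k : Type u} [Field k] {A : Type u} [CommRing A] [HopfAlgebra k A]
  {R : Type u} [CommRing R] [Algebra k R] [Comod k A R] [GLin.IsCoactAlg k A R]
  {x : R →ₐ[k] k} [Module.Finite k A] [Algebra.FiniteType k R]

/-- **Regularity at the image of a fixed point.** -/
theorem isRegularLocalRing_of_eq_my [Algebra.Smooth k R] (hG : IsLinearlyReductive k A)
    (hsub : ∀ (I : Ideal A) [I.IsHopfIdeal k], IsLinearlyReductive k (A ⧸ I))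
    (hx : GLin.IsFixedPt k A x) (hgen : GLin.IsGenByPseudoReflAt k A R x)
    (p : Ideal (GLin.invariants k A R)) [p.IsPrime] (hp : p = my k A x) :
    IsRegularLocalRing (Localization.AtPrime p) := by
  have hRN : IsNoetherianRing R := Algebra.FiniteType.isNoetherianRing k R
  have hreg : IsRegularLocalRing (Localization.AtPrime (RingHom.ker x)) :=
    Groth.Agent.VarietyA.RegSmooth.isRegularLocalRing_of_isSmoothAt (R := k) (RingHom.ker x)
  have hdom : IsDomain (Localization.AtPrime (RingHom.ker x)) :=
    Groth.Agent.CalgA.RegBasic.isDomain _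
  have hSN : IsNoetherianRing (GLin.invariants k A R) :=
    K764.Reductive.isNoetherianRing_invariants (R := R) hG
  have hfin := finite_invariants (k := k) (A := A) (R := R)
  refine isRegularLocalRing_of_colon (S := GLin.invariants k A R) (R := R) p (RingHom.ker x) hp ?_
  intro I₀ f hf g hg
  subst hp
  exact colon_le hG hsub hx hgen I₀ f hf g hg

end K676.CST
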