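import Groth.Agent.GLin.K764.Reductive
import Groth.Agent.InvTh.K672.ComodSplit
import Groth.Prelude.Def_W4c6stackyreslrsPsRefl

/-!
# Stable ideals, the fibre of `R` over a fixed rational point of the invariants

`R` a finite type `k`-algebra with an action of the finite linearly reductive group `Spec A`, `x` a
fixed rational point, `n = ker x`, `my = n ∩ R^G`.

* `stable_ker`, `stable_pow`, `stable_map`, `stable_colon`, `stable_sup`: stable ideals;
* `exists_ker_pow_le`: a power of `n` lies in `my R`;
* `exists_mul_sub_one_mem`: elements outside `n` are units modulo `my R`.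
-/

set_option autoImplicit false

universe u

open TensorProduct HopfRep

namespace K676.CST

open Groth.Agent.Books.ComodBasic Groth.Agent.Books.ComodHom Groth.Agent.Books.ComodInv
open K764.HopfMod TameAct

variable {k : Type u} [Field k] {A : Type u} [CommRing A] [HopfAlgebra k A]
  {R : Type u} [CommRing R] [Algebra k R] [Comod k A R] [GLin.IsCoactAlg k A R]

variable (k A) in
/-- The ideal is a subcomodule. -/
def Stable (I : Ideal R) : Prop := IsSubcomod (k := k) (A := A) (I.restrictScalars k)

omit [GLin.IsCoactAlg k A R] in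
lemma stable_iff (I : Ideal R) : Stable k A I ↔ ∀ φ : A →ₗ[k] k, ∀ r ∈ I, dact R φ r ∈ I :=
  isSubcomod_iff_dact _

omit [GLin.IsCoactAlg k A R] in
lemma Stable.sup {I J : Ideal R} (hI : Stable k A I) (hJ : Stable k A J) : Stable k A (I ⊔ J) := by
  rw [stable_iff] at hI hJ ⊢
  intro φ r hr
  obtain ⟨a, ha, b, hb, rfl⟩ := Submodule.mem_sup.1 hr
  rw [map_add]
  exact Submodule.add_mem_sup (hI φ a ha) (hJ φ b hb)

lemma Stable.mul {I J : Ideal R} (hI : Stable k A I) (hJ : Stable k A J) : Stable k A (I * J) := by
  have := isHopfMod_self (k := k) (A := A) (B := R)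
  exact isSubcomod_smul (k := k) (A := A) (B := R) (M := R) hI hJ

omit [GLin.IsCoactAlg k A R] in
lemma stable_top : Stable k A (⊤ : Ideal R) := by
  rw [stable_iff]
  exact fun _ _ _ => trivial

lemma Stable.pow {I : Ideal R} (hI : Stable k A I) (n : ℕ) : Stable k A (I ^ n) := by
  induction n with
  | zero =>
    rw [pow_zero, Ideal.one_eq_top]
    exact stable_top
  | succ n ih =>
    rw [pow_succ]
    exact ih.mul hI

lemma Stable.colon {I J K : Ideal R} (hI : Stable k A I) (hJ : Stable k A J)
    (hK : ∀ b, b ∈ K ↔ ∀ m ∈ J, b * m ∈ I) : Stable k A K := by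
  have := isHopfMod_self (k := k) (A := A) (B := R)
  exact isSubcomod_colon (k := k) (A := A) (B := R) (M := R) hI hJ K hK

lemma stable_span_of_fixed {s : Set R} (hs : ∀ r ∈ s, r ∈ GLin.invariants k A R) :
    Stable k A (Ideal.span s) := by
  have := isHopfMod_self (k := k) (A := A) (B := R)
  exact isSubcomod_span_of_fixed (k := k) (A := A) (B := R) (M := R) s hs

lemma stable_map (I : Ideal (GLin.invariants k A R)) :
    Stable k A (I.map (algebraMap (GLin.invariants k A R) R)) := by
  refine stable_span_of_fixed ?_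
  rintro _ ⟨y, _, rfl⟩
  exact y.2

lemma dact_mul_invariant (φ : A →ₗ[k] k) {s : R} (hs : s ∈ GLin.invariants k A R) (r : R) :
    dact R φ (s * r) = s * dact R φ r := by
  have := isHopfMod_self (k := k) (A := A) (B := R)
  have h := K764.Reductive.isComodHom_fixed_smul (k := k) (A := A) (R := R) (M := R) hs
  exact (h.map_dact φ r).symm

omit [GLin.IsCoactAlg k A R] in
lemma dact_of_mem_fixedPts (φ : A →ₗ[k] k) {s : R} (hs : s ∈ fixedPts k A R) :
    dact R φ s = φ 1 • s := (mem_fixedPts_iff_dact s).1 hs φ

/-- The kernel of a fixed point is stable. -/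
lemma stable_ker {x : R →ₐ[k] k} (hx : GLin.IsFixedPt k A x) : Stable k A (RingHom.ker x) := by
  rw [stable_iff]
  intro φ r hr
  rw [RingHom.mem_ker] at hr ⊢
  have key : ∀ z : R ⊗[k] A, x (slice R φ z) =
      φ ((Algebra.TensorProduct.lid k A) ((Algebra.TensorProduct.map x (AlgHom.id k A)) z)) := by
    intro z
    induction z with
    | zero => simp
    | tmul r a => simp [mul_comm]
    | add a b ha hb => simp only [map_add, ha, hb]
  have h1 := AlgHom.congr_fun hx r
  rw [dact_apply, key]
  have h2 : (Algebra.TensorProduct.lid k A) ((Algebra.TensorProduct.map x (AlgHom.id k A))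
      (Comod.coact (k := k) (A := A) r)) = GLin.orbitHom k A x r := rfl
  rw [h2, h1, AlgHom.comp_apply, hr, map_zero, map_zero]

section Fibre

variable (x : R →ₐ[k] k)

variable (k A) in
/-- The point of the invariants below `x`. -/
abbrev my : Ideal (GLin.invariants k A R) :=
  (RingHom.ker x).comap (algebraMap (GLin.invariants k A R) R)

variable (k A) in
/-- The ideal of the fibre. -/
abbrev fib : Ideal R := (my k A x).map (algebraMap (GLin.invariants k A R) R)

lemma fib_le : fib k A x ≤ RingHom.ker x := Ideal.map_comap_le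

lemma ker_sup_range (r : R) : ∃ c : k, r - algebraMap k R c ∈ RingHom.ker x :=
  ⟨x r, by rw [RingHom.mem_ker, map_sub, AlgHom.commutes]; simp⟩

instance : (RingHom.ker x).IsMaximal :=
  RingHom.ker_isMaximal_of_surjective x fun c => ⟨algebraMap k R c, by simp⟩

variable [Module.Finite k A] [Algebra.FiniteType k R]

lemma finite_invariants : Module.Finite (GLin.invariants k A R) R :=
  K672.ComodSplit.finite (k := k) (H := A) (R := R) GLin.IsCoactAlg.coact_mul
    GLin.IsCoactAlg.coact_one (GLin.invariants k A R) (fun _ => Iff.rfl)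

lemma isArtinianRing_fib : IsArtinianRing (R ⧸ fib k A x) := by
  have hfin := finite_invariants (k := k) (A := A) (R := R)
  have h1 : Module.Finite k (R ⧸ fib k A x) := by
    classical
    obtain ⟨s, hs⟩ := hfin
    refine ⟨⟨s.image (Ideal.Quotient.mk _), ?_⟩⟩
    rw [eq_top_iff]
    rintro y -
    obtain ⟨r, rfl⟩ := Ideal.Quotient.mk_surjective y
    have hr : r ∈ Submodule.span (GLin.invariants k A R) (s : Set R) := by rw [hs]; trivial
    induction hr using Submodule.span_induction with
    | mem r hr => exact Submodule.subset_span (by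
        rw [Finset.coe_image]
        exact ⟨r, hr, rfl⟩)
    | zero => rw [map_zero]; exact zero_mem _
    | add a b _ _ ha hb => rw [map_add]; exact add_mem ha hb
    | smul c r _ hr =>
      have h2 : Ideal.Quotient.mk (fib k A x) (c • r) = x (c : R) • Ideal.Quotient.mk _ r := by
        rw [← Ideal.Quotient.mkₐ_eq_mk k, ← map_smul, Ideal.Quotient.mkₐ_eq_mk, Ideal.Quotient.eq]
        have h3 : c • r - x (c : R) • r = ((c - algebraMap k _ (x (c : R)) :
            GLin.invariants k A R) : R) * r := by
          rw [Algebra.smul_def, Algebra.smul_def, AddSubgroupClass.coe_sub, sub_mul]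
          rfl
        rw [h3]
        have h4 : c - algebraMap k (GLin.invariants k A R) (x (c : R)) ∈ my k A x := by
          rw [Ideal.mem_comap, map_sub, RingHom.mem_ker, map_sub, sub_eq_zero]
          change x (c : R) = x (algebraMap k R (x (c : R)))
          rw [AlgHom.commutes]
          rfl
        exact Ideal.mul_mem_right _ _ (Ideal.mem_map_of_mem
          (algebraMap (GLin.invariants k A R) R) h4)
      rw [h2]
      exact Submodule.smul_mem _ _ hr
  exact IsArtinianRing.of_finite k _

variable {x} in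
/-- A power of the maximal ideal of a fixed point lies in the ideal of the fibre. -/
theorem exists_ker_pow_le (hG : IsLinearlyReductive k A) (hx : GLin.IsFixedPt k A x) :
    ∃ N : ℕ, RingHom.ker x ^ N ≤ fib k A x := by
  have hart := isArtinianRing_fib (k := k) (A := A) x
  have hRN : IsNoetherianRing R := Algebra.FiniteType.isNoetherianRing k R
  set n := RingHom.ker x with hn
  set q := Ideal.Quotient.mk (fib k A x)
  -- the powers of `n` stabilise modulo the fibre
  obtain ⟨N, hN⟩ := IsArtinian.monotone_stabilizes (R := R ⧸ fib k A x) (M := R ⧸ fib k A x)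
    ⟨fun j => OrderDual.toDual ((n.map q) ^ j), fun a b h => Ideal.pow_le_pow_right h⟩
  replace hN : ∀ m, N ≤ m → (n.map q) ^ N = (n.map q) ^ m := hN
  refine ⟨N, ?_⟩
  -- `K` is the idempotent ideal
  set K := n ^ N ⊔ fib k A x with hK
  have hsK : Stable k A K := ((stable_ker hx).pow N).sup (stable_map _)
  have hmapK : K.map q = (n.map q) ^ N := by
    rw [hK, Ideal.map_sup, Ideal.map_quotient_self, sup_bot_eq, Ideal.map_pow]
  have hidem : K.map q ≤ K.map q * K.map q := by
    rw [hmapK, ← pow_add]
    exact (hN (N + N) (Nat.le_add_right _ _)).le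
  obtain ⟨r, hr1, hr2⟩ := Submodule.exists_sub_one_mem_and_smul_eq_zero_of_fg_of_le_smul
    (K.map q) (K.map q) (by
      have : IsNoetherianRing (R ⧸ fib k A x) := inferInstance
      exact (isNoetherianRing_iff_ideal_fg _).1 this _) hidem
  obtain ⟨r, rfl⟩ := Ideal.Quotient.mk_surjective r
  -- the colon ideal
  let L : Ideal R := 
    { carrier := {b | ∀ m ∈ K, b * m ∈ fib k A x}
      add_mem' := fun ha hb m hm => by rw [add_mul]; exact add_mem (ha m hm) (hb m hm)
      zero_mem' := fun m _ => by simp
      smul_mem' := fun c b hb m hm => by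
        rw [smul_eq_mul, mul_assoc]
        exact Ideal.mul_mem_left _ _ (hb m hm) }
  have hsL : Stable k A L := (stable_map _).colon hsK (fun b => Iff.rfl)
  have hrL : r ∈ L := by
    intro m hm
    rw [← Ideal.Quotient.eq_zero_iff_mem, map_mul]
    exact hr2 _ (Ideal.mem_map_of_mem q hm)
  have hrK : r - 1 ∈ K := by
    have h1 : q (r - 1) ∈ K.map q := by rw [map_sub, map_one]; exact hr1
    rw [Ideal.mem_map_iff_of_surjective q Ideal.Quotient.mk_surjective] at h1
    obtain ⟨y, hy, hyr⟩ := h1
    have h2 : r - 1 - y ∈ fib k A x := by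
      rw [← Ideal.Quotient.eq_zero_iff_mem, map_sub, sub_eq_zero]
      exact hyr.symm
    rw [← sub_add_cancel (r - 1) y]
    exact add_mem (Ideal.mem_sup_right h2) hy
  -- lift the decomposition of `1` to invariants
  obtain ⟨κ, hκ1, hκ2, hκ3⟩ := K764.Reductive.exists_fixed_mem_sub_mem hG
    (L.restrictScalars k) hsL (K.restrictScalars k) hsK (c := 1) (b := 1 - r)
    ((GLin.invariants k A R).one_mem) (by
      have := neg_mem hrK
      rw [neg_sub] at this
      exact this) (by
      change 1 - r - 1 ∈ L
      have : 1 - r - 1 = -r := by ring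
      rw [this]
      exact neg_mem hrL)
  intro y hy
  have hyK : y ∈ K := Ideal.mem_sup_left hy
  have h3 : (κ - 1) * y ∈ fib k A x := hκ3 y hyK
  rcases Nat.eq_zero_or_pos N with h0 | hpos
  · -- then `K = R` and `fib = R`
    subst h0
    have h4 : (n.map q) ^ 0 = (n.map q) ^ 1 := hN 1 (Nat.zero_le _)
    rw [pow_zero, pow_one, Ideal.one_eq_top] at h4
    exfalso
    have h5 : (1 : R ⧸ fib k A x) ∈ n.map q := by rw [← h4]; trivial
    rw [Ideal.mem_map_iff_of_surjective q Ideal.Quotient.mk_surjective] at h5
    obtain ⟨z, hz, hz1⟩ := h5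
    have h6 : z - 1 ∈ fib k A x := by
      rw [← Ideal.Quotient.eq_zero_iff_mem, map_sub, sub_eq_zero, map_one]
      exact hz1
    have h7 : (1 : R) ∈ n := by
      have := sub_mem hz (fib_le x h6)
      rwa [sub_sub_cancel] at this
    exact (Ideal.ne_top_iff_one _).1 (Ideal.IsMaximal.ne_top inferInstance) h7
  · have hKn : K ≤ n := sup_le (Ideal.pow_le_self hpos.ne') (fib_le x)
    have h4 : κ ∈ fib k A x := Ideal.mem_map_of_mem (algebraMap (GLin.invariants k A R) R)
      (x := (⟨κ, hκ1⟩ : GLin.invariants k A R)) (I := my k A x) (hKn hκ2)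
    have h5 : κ * y ∈ fib k A x := Ideal.mul_mem_right _ _ h4
    have h6 : y = κ * y - (κ - 1) * y := by ring
    rw [h6]
    exact sub_mem h5 h3

variable {x} in
/-- Elements outside the maximal ideal are units modulo the ideal of the fibre. -/
theorem exists_mul_sub_one_mem (hG : IsLinearlyReductive k A) (hx : GLin.IsFixedPt k A x)
    {t : R} (ht : t ∉ RingHom.ker x) : ∃ u : R, u * t - 1 ∈ fib k A x := by
  obtain ⟨N, hN⟩ := exists_ker_pow_le (k := k) (A := A) hG hx
  have hc : x t ≠ 0 := ht
  -- `t = c (1 - ν)`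
  set ν := 1 - algebraMap k R (x t)⁻¹ * t with hν
  have hνm : ν ∈ RingHom.ker x := by
    rw [RingHom.mem_ker, hν, map_sub, map_mul, map_one, AlgHom.commutes]
    simp [hc]
  refine ⟨(∑ i ∈ Finset.range N, ν ^ i) * algebraMap k R (x t)⁻¹, ?_⟩
  have h1 : (∑ i ∈ Finset.range N, ν ^ i) * algebraMap k R (x t)⁻¹ * t - 1 = - ν ^ N := by
    have h2 : algebraMap k R (x t)⁻¹ * t = 1 - ν := by rw [hν]; ring
    rw [mul_assoc, h2]
    have h3 := geom_sum_mul_neg ν N
    rw [h3]
    ring
  rw [h1]
  exact neg_mem (hN (Ideal.pow_mem_pow hνm N))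

end Fibre

end K676.CST
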